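import Cfsg.Agent.Lib.Helper8.Chk.Cm_B2_0

set_option autoImplicit false

namespace Cfsg.Agent.Lib.Helper8

theorem cCm_B2 : CmOK Cfsg.Lie.chevB2 (fun r => treeB2.get r 4) nrowB2 baseB2 := by
  refine ⟨by decide +kernel, cCmB_B2, ?_⟩
  intro r hr s hs
  exact chkPairs_spec cCm_B2_at0 (by omega) (by have : Cfsg.Lie.chevB2.nroots = 8 := rfl; omega) hs

end Cfsg.Agent.Lib.Helper8
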