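import Cfsg.Agent.Lib.Helper8.IdComm
import Cfsg.Agent.Lib.Helper8.NTabB2

set_option autoImplicit false

namespace Cfsg.Agent.Lib.Helper8

def baseB2 : List (ℕ × ℕ) := [(6, 3), (6, 5), (6, 7), (7, 2), (7, 4), (7, 6)]

theorem cCmB_B2_6_3 : chkBase Cfsg.Lie.chevB2.rank Cfsg.Lie.chevB2.nroots (fun r => treeB2.get r 4) 6 3 = true := by
  decide +kernel

theorem cCmB_B2_6_5 : chkBase Cfsg.Lie.chevB2.rank Cfsg.Lie.chevB2.nroots (fun r => treeB2.get r 4) 6 5 = true := by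
  decide +kernel

theorem cCmB_B2_6_7 : chkBase Cfsg.Lie.chevB2.rank Cfsg.Lie.chevB2.nroots (fun r => treeB2.get r 4) 6 7 = true := by
  decide +kernel

theorem cCmB_B2_7_2 : chkBase Cfsg.Lie.chevB2.rank Cfsg.Lie.chevB2.nroots (fun r => treeB2.get r 4) 7 2 = true := by
  decide +kernel

theorem cCmB_B2_7_4 : chkBase Cfsg.Lie.chevB2.rank Cfsg.Lie.chevB2.nroots (fun r => treeB2.get r 4) 7 4 = true := by
  decide +kernel

theorem cCmB_B2_7_6 : chkBase Cfsg.Lie.chevB2.rank Cfsg.Lie.chevB2.nroots (fun r => treeB2.get r 4) 7 6 = true := by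
  decide +kernel

theorem cCmB_B2 : ∀ p ∈ baseB2, p.1 < Cfsg.Lie.chevB2.nroots ∧ p.2 < Cfsg.Lie.chevB2.nroots ∧ chkBase Cfsg.Lie.chevB2.rank Cfsg.Lie.chevB2.nroots (fun r => treeB2.get r 4) p.1 p.2 = true := by
  intro p hp
  simp only [baseB2, List.mem_cons, List.mem_nil_iff, or_false] at hp
  rcases hp with rfl | rfl | rfl | rfl | rfl | rfl
  · exact ⟨by decide, by decide, cCmB_B2_6_3⟩
  · exact ⟨by decide, by decide, cCmB_B2_6_5⟩
  · exact ⟨by decide, by decide, cCmB_B2_6_7⟩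
  · exact ⟨by decide, by decide, cCmB_B2_7_2⟩
  · exact ⟨by decide, by decide, cCmB_B2_7_4⟩
  · exact ⟨by decide, by decide, cCmB_B2_7_6⟩

end Cfsg.Agent.Lib.Helper8
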