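import Cfsg.Agent.Lib.Helper8.IdComm
import Cfsg.Agent.Lib.Helper8.NTabD4

set_option autoImplicit false

namespace Cfsg.Agent.Lib.Helper8

def baseD4 : List (ℕ × ℕ) := [(23, 9), (23, 12), (23, 13), (23, 18), (23, 22)]

theorem cCmB_D4_23_9 : chkBase Cfsg.Lie.chevD4.rank Cfsg.Lie.chevD4.nroots (fun r => treeD4.get r 16) 23 9 = true := by
  decide +kernel

theorem cCmB_D4_23_12 : chkBase Cfsg.Lie.chevD4.rank Cfsg.Lie.chevD4.nroots (fun r => treeD4.get r 16) 23 12 = true := by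
  decide +kernel

theorem cCmB_D4_23_13 : chkBase Cfsg.Lie.chevD4.rank Cfsg.Lie.chevD4.nroots (fun r => treeD4.get r 16) 23 13 = true := by
  decide +kernel

theorem cCmB_D4_23_18 : chkBase Cfsg.Lie.chevD4.rank Cfsg.Lie.chevD4.nroots (fun r => treeD4.get r 16) 23 18 = true := by
  decide +kernel

theorem cCmB_D4_23_22 : chkBase Cfsg.Lie.chevD4.rank Cfsg.Lie.chevD4.nroots (fun r => treeD4.get r 16) 23 22 = true := by
  decide +kernel

theorem cCmB_D4 : ∀ p ∈ baseD4, p.1 < Cfsg.Lie.chevD4.nroots ∧ p.2 < Cfsg.Lie.chevD4.nroots ∧ chkBase Cfsg.Lie.chevD4.rank Cfsg.Lie.chevD4.nroots (fun r => treeD4.get r 16) p.1 p.2 = true := by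
  intro p hp
  simp only [baseD4, List.mem_cons, List.mem_nil_iff, or_false] at hp
  rcases hp with rfl | rfl | rfl | rfl | rfl
  · exact ⟨by decide, by decide, cCmB_D4_23_9⟩
  · exact ⟨by decide, by decide, cCmB_D4_23_12⟩
  · exact ⟨by decide, by decide, cCmB_D4_23_13⟩
  · exact ⟨by decide, by decide, cCmB_D4_23_18⟩
  · exact ⟨by decide, by decide, cCmB_D4_23_22⟩

end Cfsg.Agent.Lib.Helper8
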