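import Cfsg.Agent.Lib.Helper8.IdComm
import Cfsg.Agent.Lib.Helper8.NTabE6

set_option autoImplicit false

namespace Cfsg.Agent.Lib.Helper8

def baseE6 : List (ℕ × ℕ) := [(71, 25), (71, 60), (71, 70)]

theorem cCmB_E6_71_25 : chkBase Cfsg.Lie.chevE6.rank Cfsg.Lie.chevE6.nroots (fun r => treeE6.get r 64) 71 25 = true := by
  decide +kernel

theorem cCmB_E6_71_60 : chkBase Cfsg.Lie.chevE6.rank Cfsg.Lie.chevE6.nroots (fun r => treeE6.get r 64) 71 60 = true := by
  decide +kernel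

theorem cCmB_E6_71_70 : chkBase Cfsg.Lie.chevE6.rank Cfsg.Lie.chevE6.nroots (fun r => treeE6.get r 64) 71 70 = true := by
  decide +kernel

theorem cCmB_E6 : ∀ p ∈ baseE6, p.1 < Cfsg.Lie.chevE6.nroots ∧ p.2 < Cfsg.Lie.chevE6.nroots ∧ chkBase Cfsg.Lie.chevE6.rank Cfsg.Lie.chevE6.nroots (fun r => treeE6.get r 64) p.1 p.2 = true := by
  intro p hp
  simp only [baseE6, List.mem_cons, List.mem_nil_iff, or_false] at hp
  rcases hp with rfl | rfl | rfl
  · exact ⟨by decide, by decide, cCmB_E6_71_25⟩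
  · exact ⟨by decide, by decide, cCmB_E6_71_60⟩
  · exact ⟨by decide, by decide, cCmB_E6_71_70⟩

end Cfsg.Agent.Lib.Helper8
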