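import Cfsg.Agent.Lib.Helper8.Chk.Cm_E7_0

set_option autoImplicit false

namespace Cfsg.Agent.Lib.Helper8

theorem cCm_E7 : CmOK Cfsg.Lie.chevE7 (fun r => treeE7.get r 64) nrowE7 baseE7 := by
  refine ⟨by decide +kernel, cCmB_E7, ?_⟩
  intro r hr s hs
  by_cases h0 : r < 42
  · exact chkPairs_spec cCm_E7_at0 (by omega) (by omega) hs
  by_cases h1 : r < 84
  · exact chkPairs_spec cCm_E7_at42 (by omega) (by omega) hs
  exact chkPairs_spec cCm_E7_at84 (by omega) (by have : Cfsg.Lie.chevE7.nroots = 126 := rfl; omega) hs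

end Cfsg.Agent.Lib.Helper8
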