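import Cfsg.Agent.Lib.Helper8.IdComm
import Cfsg.Agent.Lib.Helper8.NTabE7

set_option autoImplicit false

namespace Cfsg.Agent.Lib.Helper8

def baseE7 : List (ℕ × ℕ) := [(125, 32), (125, 92), (125, 124)]

theorem cCmB_E7_125_32 : chkBase Cfsg.Lie.chevE7.rank Cfsg.Lie.chevE7.nroots (fun r => treeE7.get r 64) 125 32 = true := by
  decide +kernel

theorem cCmB_E7_125_92 : chkBase Cfsg.Lie.chevE7.rank Cfsg.Lie.chevE7.nroots (fun r => treeE7.get r 64) 125 92 = true := by
  decide +kernel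

theorem cCmB_E7_125_124 : chkBase Cfsg.Lie.chevE7.rank Cfsg.Lie.chevE7.nroots (fun r => treeE7.get r 64) 125 124 = true := by
  decide +kernel

theorem cCmB_E7 : ∀ p ∈ baseE7, p.1 < Cfsg.Lie.chevE7.nroots ∧ p.2 < Cfsg.Lie.chevE7.nroots ∧ chkBase Cfsg.Lie.chevE7.rank Cfsg.Lie.chevE7.nroots (fun r => treeE7.get r 64) p.1 p.2 = true := by
  intro p hp
  simp only [baseE7, List.mem_cons, List.mem_nil_iff, or_false] at hp
  rcases hp with rfl | rfl | rfl
  · exact ⟨by decide, by decide, cCmB_E7_125_32⟩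
  · exact ⟨by decide, by decide, cCmB_E7_125_92⟩
  · exact ⟨by decide, by decide, cCmB_E7_125_124⟩

end Cfsg.Agent.Lib.Helper8
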