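import Cfsg.Agent.Lib.Helper8.Chk.Cm_E8_0
import Cfsg.Agent.Lib.Helper8.Chk.Cm_E8_1

set_option autoImplicit false

namespace Cfsg.Agent.Lib.Helper8

theorem cCm_E8 : CmOK Cfsg.Lie.chevE8 (fun r => treeE8.get r 128) nrowE8 baseE8 := by
  refine ⟨by decide +kernel, cCmB_E8, ?_⟩
  intro r hr s hs
  by_cases h0 : r < 24
  · exact chkPairs_spec cCm_E8_at0 (by omega) (by omega) hs
  by_cases h1 : r < 48
  · exact chkPairs_spec cCm_E8_at24 (by omega) (by omega) hs
  by_cases h2 : r < 72
  · exact chkPairs_spec cCm_E8_at48 (by omega) (by omega) hs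
  by_cases h3 : r < 96
  · exact chkPairs_spec cCm_E8_at72 (by omega) (by omega) hs
  by_cases h4 : r < 120
  · exact chkPairs_spec cCm_E8_at96 (by omega) (by omega) hs
  by_cases h5 : r < 144
  · exact chkPairs_spec cCm_E8_at120 (by omega) (by omega) hs
  by_cases h6 : r < 168
  · exact chkPairs_spec cCm_E8_at144 (by omega) (by omega) hs
  by_cases h7 : r < 192
  · exact chkPairs_spec cCm_E8_at168 (by omega) (by omega) hs
  by_cases h8 : r < 216
  · exact chkPairs_spec cCm_E8_at192 (by omega) (by omega) hs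
  exact chkPairs_spec cCm_E8_at216 (by omega) (by have : Cfsg.Lie.chevE8.nroots = 240 := rfl; omega) hs

end Cfsg.Agent.Lib.Helper8
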