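import Cfsg.Agent.Lib.Helper8.Chk.Cm_E8_base

set_option autoImplicit false

namespace Cfsg.Agent.Lib.Helper8

theorem cCm_E8_at0 : chkPairs Cfsg.Lie.chevE8.rank Cfsg.Lie.chevE8.nroots (fun r => treeE8.get r 128) nrowE8 baseE8 0 24 = true := by
  decide +kernel

theorem cCm_E8_at24 : chkPairs Cfsg.Lie.chevE8.rank Cfsg.Lie.chevE8.nroots (fun r => treeE8.get r 128) nrowE8 baseE8 24 24 = true := by
  decide +kernel

theorem cCm_E8_at48 : chkPairs Cfsg.Lie.chevE8.rank Cfsg.Lie.chevE8.nroots (fun r => treeE8.get r 128) nrowE8 baseE8 48 24 = true := by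
  decide +kernel

theorem cCm_E8_at72 : chkPairs Cfsg.Lie.chevE8.rank Cfsg.Lie.chevE8.nroots (fun r => treeE8.get r 128) nrowE8 baseE8 72 24 = true := by
  decide +kernel

theorem cCm_E8_at96 : chkPairs Cfsg.Lie.chevE8.rank Cfsg.Lie.chevE8.nroots (fun r => treeE8.get r 128) nrowE8 baseE8 96 24 = true := by
  decide +kernel

end Cfsg.Agent.Lib.Helper8
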