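import Cfsg.Agent.Lib.Helper8.IdComm
import Cfsg.Agent.Lib.Helper8.NTabE8

set_option autoImplicit false

namespace Cfsg.Agent.Lib.Helper8

def baseE8 : List (ℕ × ℕ) := [(239, 119), (239, 226), (239, 238)]

theorem cCmB_E8_239_119 : chkBase Cfsg.Lie.chevE8.rank Cfsg.Lie.chevE8.nroots (fun r => treeE8.get r 128) 239 119 = true := by
  decide +kernel

theorem cCmB_E8_239_226 : chkBase Cfsg.Lie.chevE8.rank Cfsg.Lie.chevE8.nroots (fun r => treeE8.get r 128) 239 226 = true := by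
  decide +kernel

theorem cCmB_E8_239_238 : chkBase Cfsg.Lie.chevE8.rank Cfsg.Lie.chevE8.nroots (fun r => treeE8.get r 128) 239 238 = true := by
  decide +kernel

theorem cCmB_E8 : ∀ p ∈ baseE8, p.1 < Cfsg.Lie.chevE8.nroots ∧ p.2 < Cfsg.Lie.chevE8.nroots ∧ chkBase Cfsg.Lie.chevE8.rank Cfsg.Lie.chevE8.nroots (fun r => treeE8.get r 128) p.1 p.2 = true := by
  intro p hp
  simp only [baseE8, List.mem_cons, List.mem_nil_iff, or_false] at hp
  rcases hp with rfl | rfl | rfl
  · exact ⟨by decide, by decide, cCmB_E8_239_119⟩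
  · exact ⟨by decide, by decide, cCmB_E8_239_226⟩
  · exact ⟨by decide, by decide, cCmB_E8_239_238⟩

end Cfsg.Agent.Lib.Helper8
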