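import Cfsg.Agent.Lib.Helper8.Chk.Cm_F4_0

set_option autoImplicit false

namespace Cfsg.Agent.Lib.Helper8

theorem cCm_F4 : CmOK Cfsg.Lie.chevF4 (fun r => treeF4.get r 32) nrowF4 baseF4 := by
  refine ⟨by decide +kernel, cCmB_F4, ?_⟩
  intro r hr s hs
  exact chkPairs_spec cCm_F4_at0 (by omega) (by have : Cfsg.Lie.chevF4.nroots = 48 := rfl; omega) hs

end Cfsg.Agent.Lib.Helper8
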