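import Cfsg.Agent.Lib.Helper8.Chk.Cm_F4_base

set_option autoImplicit false

namespace Cfsg.Agent.Lib.Helper8

theorem cCm_F4_at0 : chkPairs Cfsg.Lie.chevF4.rank Cfsg.Lie.chevF4.nroots (fun r => treeF4.get r 32) nrowF4 baseF4 0 48 = true := by
  decide +kernel

end Cfsg.Agent.Lib.Helper8
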