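import Cfsg.Agent.Lib.Helper8.IdComm
import Cfsg.Agent.Lib.Helper8.NTabF4

set_option autoImplicit false

namespace Cfsg.Agent.Lib.Helper8

def baseF4 : List (ℕ × ℕ) := [(44, 6), (44, 14), (44, 29), (44, 32), (44, 40), (44, 47), (47, 18), (47, 23), (47, 37), (47, 41), (47, 44), (47, 46)]

theorem cCmB_F4_44_6 : chkBase Cfsg.Lie.chevF4.rank Cfsg.Lie.chevF4.nroots (fun r => treeF4.get r 32) 44 6 = true := by
  decide +kernel

theorem cCmB_F4_44_14 : chkBase Cfsg.Lie.chevF4.rank Cfsg.Lie.chevF4.nroots (fun r => treeF4.get r 32) 44 14 = true := by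
  decide +kernel

theorem cCmB_F4_44_29 : chkBase Cfsg.Lie.chevF4.rank Cfsg.Lie.chevF4.nroots (fun r => treeF4.get r 32) 44 29 = true := by
  decide +kernel

theorem cCmB_F4_44_32 : chkBase Cfsg.Lie.chevF4.rank Cfsg.Lie.chevF4.nroots (fun r => treeF4.get r 32) 44 32 = true := by
  decide +kernel

theorem cCmB_F4_44_40 : chkBase Cfsg.Lie.chevF4.rank Cfsg.Lie.chevF4.nroots (fun r => treeF4.get r 32) 44 40 = true := by
  decide +kernel

theorem cCmB_F4_44_47 : chkBase Cfsg.Lie.chevF4.rank Cfsg.Lie.chevF4.nroots (fun r => treeF4.get r 32) 44 47 = true := by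
  decide +kernel

theorem cCmB_F4_47_18 : chkBase Cfsg.Lie.chevF4.rank Cfsg.Lie.chevF4.nroots (fun r => treeF4.get r 32) 47 18 = true := by
  decide +kernel

theorem cCmB_F4_47_23 : chkBase Cfsg.Lie.chevF4.rank Cfsg.Lie.chevF4.nroots (fun r => treeF4.get r 32) 47 23 = true := by
  decide +kernel

theorem cCmB_F4_47_37 : chkBase Cfsg.Lie.chevF4.rank Cfsg.Lie.chevF4.nroots (fun r => treeF4.get r 32) 47 37 = true := by
  decide +kernel

theorem cCmB_F4_47_41 : chkBase Cfsg.Lie.chevF4.rank Cfsg.Lie.chevF4.nroots (fun r => treeF4.get r 32) 47 41 = true := by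
  decide +kernel

theorem cCmB_F4_47_44 : chkBase Cfsg.Lie.chevF4.rank Cfsg.Lie.chevF4.nroots (fun r => treeF4.get r 32) 47 44 = true := by
  decide +kernel

theorem cCmB_F4_47_46 : chkBase Cfsg.Lie.chevF4.rank Cfsg.Lie.chevF4.nroots (fun r => treeF4.get r 32) 47 46 = true := by
  decide +kernel

theorem cCmB_F4 : ∀ p ∈ baseF4, p.1 < Cfsg.Lie.chevF4.nroots ∧ p.2 < Cfsg.Lie.chevF4.nroots ∧ chkBase Cfsg.Lie.chevF4.rank Cfsg.Lie.chevF4.nroots (fun r => treeF4.get r 32) p.1 p.2 = true := by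
  intro p hp
  simp only [baseF4, List.mem_cons, List.mem_nil_iff, or_false] at hp
  rcases hp with rfl | rfl | rfl | rfl | rfl | rfl | rfl | rfl | rfl | rfl | rfl | rfl
  · exact ⟨by decide, by decide, cCmB_F4_44_6⟩
  · exact ⟨by decide, by decide, cCmB_F4_44_14⟩
  · exact ⟨by decide, by decide, cCmB_F4_44_29⟩
  · exact ⟨by decide, by decide, cCmB_F4_44_32⟩
  · exact ⟨by decide, by decide, cCmB_F4_44_40⟩
  · exact ⟨by decide, by decide, cCmB_F4_44_47⟩
  · exact ⟨by decide, by decide, cCmB_F4_47_18⟩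
  · exact ⟨by decide, by decide, cCmB_F4_47_23⟩
  · exact ⟨by decide, by decide, cCmB_F4_47_37⟩
  · exact ⟨by decide, by decide, cCmB_F4_47_41⟩
  · exact ⟨by decide, by decide, cCmB_F4_47_44⟩
  · exact ⟨by decide, by decide, cCmB_F4_47_46⟩

end Cfsg.Agent.Lib.Helper8
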