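import Cfsg.Agent.Lib.Helper8.Chk.Cm_G2_0

set_option autoImplicit false

namespace Cfsg.Agent.Lib.Helper8

theorem cCm_G2 : CmOK Cfsg.Lie.chevG2 (fun r => treeG2.get r 8) nrowG2 baseG2 := by
  refine ⟨by decide +kernel, cCmB_G2, ?_⟩
  intro r hr s hs
  exact chkPairs_spec cCm_G2_at0 (by omega) (by have : Cfsg.Lie.chevG2.nroots = 12 := rfl; omega) hs

end Cfsg.Agent.Lib.Helper8
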