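import Cfsg.Agent.Lib.Helper8.Chk.Cm_G2_base

set_option autoImplicit false

namespace Cfsg.Agent.Lib.Helper8

theorem cCm_G2_at0 : chkPairs Cfsg.Lie.chevG2.rank Cfsg.Lie.chevG2.nroots (fun r => treeG2.get r 8) nrowG2 baseG2 0 12 = true := by
  decide +kernel

end Cfsg.Agent.Lib.Helper8
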