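import Cfsg.Agent.Lib.Helper8.IdComm
import Cfsg.Agent.Lib.Helper8.NTabG2

set_option autoImplicit false

namespace Cfsg.Agent.Lib.Helper8

def baseG2 : List (ℕ × ℕ) := [(9, 1), (9, 4), (9, 6), (9, 8), (9, 11), (11, 3), (11, 5), (11, 7), (11, 9), (11, 10)]

theorem cCmB_G2_9_1 : chkBase Cfsg.Lie.chevG2.rank Cfsg.Lie.chevG2.nroots (fun r => treeG2.get r 8) 9 1 = true := by
  decide +kernel

theorem cCmB_G2_9_4 : chkBase Cfsg.Lie.chevG2.rank Cfsg.Lie.chevG2.nroots (fun r => treeG2.get r 8) 9 4 = true := by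
  decide +kernel

theorem cCmB_G2_9_6 : chkBase Cfsg.Lie.chevG2.rank Cfsg.Lie.chevG2.nroots (fun r => treeG2.get r 8) 9 6 = true := by
  decide +kernel

theorem cCmB_G2_9_8 : chkBase Cfsg.Lie.chevG2.rank Cfsg.Lie.chevG2.nroots (fun r => treeG2.get r 8) 9 8 = true := by
  decide +kernel

theorem cCmB_G2_9_11 : chkBase Cfsg.Lie.chevG2.rank Cfsg.Lie.chevG2.nroots (fun r => treeG2.get r 8) 9 11 = true := by
  decide +kernel

theorem cCmB_G2_11_3 : chkBase Cfsg.Lie.chevG2.rank Cfsg.Lie.chevG2.nroots (fun r => treeG2.get r 8) 11 3 = true := by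
  decide +kernel

theorem cCmB_G2_11_5 : chkBase Cfsg.Lie.chevG2.rank Cfsg.Lie.chevG2.nroots (fun r => treeG2.get r 8) 11 5 = true := by
  decide +kernel

theorem cCmB_G2_11_7 : chkBase Cfsg.Lie.chevG2.rank Cfsg.Lie.chevG2.nroots (fun r => treeG2.get r 8) 11 7 = true := by
  decide +kernel

theorem cCmB_G2_11_9 : chkBase Cfsg.Lie.chevG2.rank Cfsg.Lie.chevG2.nroots (fun r => treeG2.get r 8) 11 9 = true := by
  decide +kernel

theorem cCmB_G2_11_10 : chkBase Cfsg.Lie.chevG2.rank Cfsg.Lie.chevG2.nroots (fun r => treeG2.get r 8) 11 10 = true := by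
  decide +kernel

theorem cCmB_G2 : ∀ p ∈ baseG2, p.1 < Cfsg.Lie.chevG2.nroots ∧ p.2 < Cfsg.Lie.chevG2.nroots ∧ chkBase Cfsg.Lie.chevG2.rank Cfsg.Lie.chevG2.nroots (fun r => treeG2.get r 8) p.1 p.2 = true := by
  intro p hp
  simp only [baseG2, List.mem_cons, List.mem_nil_iff, or_false] at hp
  rcases hp with rfl | rfl | rfl | rfl | rfl | rfl | rfl | rfl | rfl | rfl
  · exact ⟨by decide, by decide, cCmB_G2_9_1⟩
  · exact ⟨by decide, by decide, cCmB_G2_9_4⟩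
  · exact ⟨by decide, by decide, cCmB_G2_9_6⟩
  · exact ⟨by decide, by decide, cCmB_G2_9_8⟩
  · exact ⟨by decide, by decide, cCmB_G2_9_11⟩
  · exact ⟨by decide, by decide, cCmB_G2_11_3⟩
  · exact ⟨by decide, by decide, cCmB_G2_11_5⟩
  · exact ⟨by decide, by decide, cCmB_G2_11_7⟩
  · exact ⟨by decide, by decide, cCmB_G2_11_9⟩
  · exact ⟨by decide, by decide, cCmB_G2_11_10⟩

end Cfsg.Agent.Lib.Helper8
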