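import Cfsg.Agent.Lib.Helper8.IdGr
import Cfsg.Agent.Lib.Helper8.TabE6

set_option autoImplicit false

namespace Cfsg.Agent.Lib.Helper8

theorem cGr_E6_at0 : chkGr Cfsg.Lie.chevE6.rank Cfsg.Lie.chevE6.nroots (fun r => treeE6.get r 64) 0 72 = true := by
  decide +kernel

end Cfsg.Agent.Lib.Helper8
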