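import Cfsg.Agent.Lib.Helper8.Chk.Gr_E8_0
import Cfsg.Agent.Lib.Helper8.Chk.Gr_E8_1

set_option autoImplicit false

namespace Cfsg.Agent.Lib.Helper8

theorem cGr_E8 : ∀ r < Cfsg.Lie.chevE8.nroots, ∀ j < Cfsg.Lie.chevE8.rank + Cfsg.Lie.chevE8.nroots,
    chkGrCol Cfsg.Lie.chevE8.rank Cfsg.Lie.chevE8.nroots (fun r => treeE8.get r 128) r j = true := by
  intro r hr j hj
  by_cases h0 : r < 60
  · exact chkGr_spec cGr_E8_at0 (by omega) (by omega) hj
  by_cases h1 : r < 120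
  · exact chkGr_spec cGr_E8_at60 (by omega) (by omega) hj
  by_cases h2 : r < 180
  · exact chkGr_spec cGr_E8_at120 (by omega) (by omega) hj
  exact chkGr_spec cGr_E8_at180 (by omega) (by have : Cfsg.Lie.chevE8.nroots = 240 := rfl; omega) hj

end Cfsg.Agent.Lib.Helper8
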