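import Cfsg.Agent.Lib.Helper8.Chk.Gr_F4_0

set_option autoImplicit false

namespace Cfsg.Agent.Lib.Helper8

theorem cGr_F4 : ∀ r < Cfsg.Lie.chevF4.nroots, ∀ j < Cfsg.Lie.chevF4.rank + Cfsg.Lie.chevF4.nroots,
    chkGrCol Cfsg.Lie.chevF4.rank Cfsg.Lie.chevF4.nroots (fun r => treeF4.get r 32) r j = true := by
  intro r hr j hj
  exact chkGr_spec cGr_F4_at0 (by omega) (by have : Cfsg.Lie.chevF4.nroots = 48 := rfl; omega) hj

end Cfsg.Agent.Lib.Helper8
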