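import Cfsg.Agent.Lib.Helper8.IdGr
import Cfsg.Agent.Lib.Helper8.TabG2

set_option autoImplicit false

namespace Cfsg.Agent.Lib.Helper8

theorem cGr_G2_at0 : chkGr Cfsg.Lie.chevG2.rank Cfsg.Lie.chevG2.nroots (fun r => treeG2.get r 8) 0 12 = true := by
  decide +kernel

end Cfsg.Agent.Lib.Helper8
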