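import Cfsg.Agent.Lib.Helper8.Chk.H_B2_0

set_option autoImplicit false

namespace Cfsg.Agent.Lib.Helper8

theorem cH_B2 : ∀ r < Cfsg.Lie.chevB2.nroots, ∀ j < Cfsg.Lie.chevB2.rank + Cfsg.Lie.chevB2.nroots,
    chkHcol Cfsg.Lie.chevB2.rank Cfsg.Lie.chevB2.nroots (fun r => treeB2.get r 4) r j = true := by
  intro r hr j hj
  exact chkH_spec cH_B2_at0 (by omega) (by have : Cfsg.Lie.chevB2.nroots = 8 := rfl; omega) hj

end Cfsg.Agent.Lib.Helper8
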