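import Cfsg.Agent.Lib.Helper8.IdN
import Cfsg.Agent.Lib.Helper8.TabE7

set_option autoImplicit false

namespace Cfsg.Agent.Lib.Helper8

theorem cH_E7_at63 : chkH Cfsg.Lie.chevE7.rank Cfsg.Lie.chevE7.nroots (fun r => treeE7.get r 64) 63 21 = true := by
  decide +kernel

theorem cH_E7_at84 : chkH Cfsg.Lie.chevE7.rank Cfsg.Lie.chevE7.nroots (fun r => treeE7.get r 64) 84 21 = true := by
  decide +kernel

theorem cH_E7_at105 : chkH Cfsg.Lie.chevE7.rank Cfsg.Lie.chevE7.nroots (fun r => treeE7.get r 64) 105 21 = true := by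
  decide +kernel

end Cfsg.Agent.Lib.Helper8
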