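import Cfsg.Agent.Lib.Helper8.Chk.H_E8_0
import Cfsg.Agent.Lib.Helper8.Chk.H_E8_1
import Cfsg.Agent.Lib.Helper8.Chk.H_E8_2

set_option autoImplicit false

namespace Cfsg.Agent.Lib.Helper8

theorem cH_E8 : ∀ r < Cfsg.Lie.chevE8.nroots, ∀ j < Cfsg.Lie.chevE8.rank + Cfsg.Lie.chevE8.nroots,
    chkHcol Cfsg.Lie.chevE8.rank Cfsg.Lie.chevE8.nroots (fun r => treeE8.get r 128) r j = true := by
  intro r hr j hj
  by_cases h0 : r < 16
  · exact chkH_spec cH_E8_at0 (by omega) (by omega) hj
  by_cases h1 : r < 32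
  · exact chkH_spec cH_E8_at16 (by omega) (by omega) hj
  by_cases h2 : r < 48
  · exact chkH_spec cH_E8_at32 (by omega) (by omega) hj
  by_cases h3 : r < 64
  · exact chkH_spec cH_E8_at48 (by omega) (by omega) hj
  by_cases h4 : r < 80
  · exact chkH_spec cH_E8_at64 (by omega) (by omega) hj
  by_cases h5 : r < 96
  · exact chkH_spec cH_E8_at80 (by omega) (by omega) hj
  by_cases h6 : r < 112
  · exact chkH_spec cH_E8_at96 (by omega) (by omega) hj
  by_cases h7 : r < 128
  · exact chkH_spec cH_E8_at112 (by omega) (by omega) hj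
  by_cases h8 : r < 144
  · exact chkH_spec cH_E8_at128 (by omega) (by omega) hj
  by_cases h9 : r < 160
  · exact chkH_spec cH_E8_at144 (by omega) (by omega) hj
  by_cases h10 : r < 176
  · exact chkH_spec cH_E8_at160 (by omega) (by omega) hj
  by_cases h11 : r < 192
  · exact chkH_spec cH_E8_at176 (by omega) (by omega) hj
  by_cases h12 : r < 208
  · exact chkH_spec cH_E8_at192 (by omega) (by omega) hj
  by_cases h13 : r < 224
  · exact chkH_spec cH_E8_at208 (by omega) (by omega) hj
  exact chkH_spec cH_E8_at224 (by omega) (by have : Cfsg.Lie.chevE8.nroots = 240 := rfl; omega) hj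

end Cfsg.Agent.Lib.Helper8
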