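import Cfsg.Agent.Lib.Helper8.IdN
import Cfsg.Agent.Lib.Helper8.TabE8

set_option autoImplicit false

namespace Cfsg.Agent.Lib.Helper8

theorem cH_E8_at0 : chkH Cfsg.Lie.chevE8.rank Cfsg.Lie.chevE8.nroots (fun r => treeE8.get r 128) 0 16 = true := by
  decide +kernel

theorem cH_E8_at16 : chkH Cfsg.Lie.chevE8.rank Cfsg.Lie.chevE8.nroots (fun r => treeE8.get r 128) 16 16 = true := by
  decide +kernel

theorem cH_E8_at32 : chkH Cfsg.Lie.chevE8.rank Cfsg.Lie.chevE8.nroots (fun r => treeE8.get r 128) 32 16 = true := by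
  decide +kernel

theorem cH_E8_at48 : chkH Cfsg.Lie.chevE8.rank Cfsg.Lie.chevE8.nroots (fun r => treeE8.get r 128) 48 16 = true := by
  decide +kernel

theorem cH_E8_at64 : chkH Cfsg.Lie.chevE8.rank Cfsg.Lie.chevE8.nroots (fun r => treeE8.get r 128) 64 16 = true := by
  decide +kernel

end Cfsg.Agent.Lib.Helper8
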