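import Cfsg.Agent.Lib.Helper8.WeylLev

set_option autoImplicit false

namespace Cfsg.Agent.Lib.Helper8

open Cfsg Cfsg.Lie

theorem cLev_B2_0 : LevOK chevB2 nrowB2 0 maskB2_0 levB2_0 keyB2_0 :=
  ⟨by decide +kernel, by decide +kernel, by decide +kernel⟩

theorem cLev_B2_1 : LevOK chevB2 nrowB2 1 maskB2_1 levB2_1 keyB2_1 :=
  ⟨by decide +kernel, by decide +kernel, by decide +kernel⟩

theorem cLev_B2 : ∀ k < chevB2.rank, LevOK chevB2 (nrowOf chevB2) k (maskOf chevB2 k) (levOf chevB2 k) (keyOf chevB2 k) := by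
  intro k hk
  have hk' : k < 2 := hk
  interval_cases k
  · exact cLev_B2_0
  · exact cLev_B2_1

end Cfsg.Agent.Lib.Helper8
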