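import Cfsg.Agent.Lib.Helper8.WeylLev

set_option autoImplicit false

namespace Cfsg.Agent.Lib.Helper8

open Cfsg Cfsg.Lie

theorem cLev_D4_0 : LevOK chevD4 nrowD4 0 maskD4_0 levD4_0 keyD4_0 :=
  ⟨by decide +kernel, by decide +kernel, by decide +kernel⟩

theorem cLev_D4_1 : LevOK chevD4 nrowD4 1 maskD4_1 levD4_1 keyD4_1 :=
  ⟨by decide +kernel, by decide +kernel, by decide +kernel⟩

theorem cLev_D4_2 : LevOK chevD4 nrowD4 2 maskD4_2 levD4_2 keyD4_2 :=
  ⟨by decide +kernel, by decide +kernel, by decide +kernel⟩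

theorem cLev_D4_3 : LevOK chevD4 nrowD4 3 maskD4_3 levD4_3 keyD4_3 :=
  ⟨by decide +kernel, by decide +kernel, by decide +kernel⟩

theorem cLev_D4 : ∀ k < chevD4.rank, LevOK chevD4 (nrowOf chevD4) k (maskOf chevD4 k) (levOf chevD4 k) (keyOf chevD4 k) := by
  intro k hk
  have hk' : k < 4 := hk
  interval_cases k
  · exact cLev_D4_0
  · exact cLev_D4_1
  · exact cLev_D4_2
  · exact cLev_D4_3

end Cfsg.Agent.Lib.Helper8
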