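import Cfsg.Agent.Lib.Helper8.WeylLev

set_option autoImplicit false

namespace Cfsg.Agent.Lib.Helper8

open Cfsg Cfsg.Lie

theorem cLev_E6_0 : LevOK chevE6 nrowE6 0 maskE6_0 levE6_0 keyE6_0 :=
  ⟨by decide +kernel, by decide +kernel, by decide +kernel⟩

theorem cLev_E6_1 : LevOK chevE6 nrowE6 1 maskE6_1 levE6_1 keyE6_1 :=
  ⟨by decide +kernel, by decide +kernel, by decide +kernel⟩

theorem cLev_E6_2 : LevOK chevE6 nrowE6 2 maskE6_2 levE6_2 keyE6_2 :=
  ⟨by decide +kernel, by decide +kernel, by decide +kernel⟩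

theorem cLev_E6_3 : LevOK chevE6 nrowE6 3 maskE6_3 levE6_3 keyE6_3 :=
  ⟨by decide +kernel, by decide +kernel, by decide +kernel⟩

theorem cLev_E6_4 : LevOK chevE6 nrowE6 4 maskE6_4 levE6_4 keyE6_4 :=
  ⟨by decide +kernel, by decide +kernel, by decide +kernel⟩

theorem cLev_E6_5 : LevOK chevE6 nrowE6 5 maskE6_5 levE6_5 keyE6_5 :=
  ⟨by decide +kernel, by decide +kernel, by decide +kernel⟩

theorem cLev_E6 : ∀ k < chevE6.rank, LevOK chevE6 (nrowOf chevE6) k (maskOf chevE6 k) (levOf chevE6 k) (keyOf chevE6 k) := by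
  intro k hk
  have hk' : k < 6 := hk
  interval_cases k
  · exact cLev_E6_0
  · exact cLev_E6_1
  · exact cLev_E6_2
  · exact cLev_E6_3
  · exact cLev_E6_4
  · exact cLev_E6_5

end Cfsg.Agent.Lib.Helper8
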