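import Cfsg.Agent.Lib.Helper8.WeylLev

set_option autoImplicit false

namespace Cfsg.Agent.Lib.Helper8

open Cfsg Cfsg.Lie

theorem cLev_E7_0 : LevOK chevE7 nrowE7 0 maskE7_0 levE7_0 keyE7_0 :=
  ⟨by decide +kernel, by decide +kernel, by decide +kernel⟩

theorem cLev_E7_1 : LevOK chevE7 nrowE7 1 maskE7_1 levE7_1 keyE7_1 :=
  ⟨by decide +kernel, by decide +kernel, by decide +kernel⟩

theorem cLev_E7_2 : LevOK chevE7 nrowE7 2 maskE7_2 levE7_2 keyE7_2 :=
  ⟨by decide +kernel, by decide +kernel, by decide +kernel⟩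

theorem cLev_E7_3 : LevOK chevE7 nrowE7 3 maskE7_3 levE7_3 keyE7_3 :=
  ⟨by decide +kernel, by decide +kernel, by decide +kernel⟩

theorem cLev_E7_4 : LevOK chevE7 nrowE7 4 maskE7_4 levE7_4 keyE7_4 :=
  ⟨by decide +kernel, by decide +kernel, by decide +kernel⟩

theorem cLev_E7_5 : LevOK chevE7 nrowE7 5 maskE7_5 levE7_5 keyE7_5 :=
  ⟨by decide +kernel, by decide +kernel, by decide +kernel⟩

theorem cLev_E7_6 : LevOK chevE7 nrowE7 6 maskE7_6 levE7_6 keyE7_6 :=
  ⟨by decide +kernel, by decide +kernel, by decide +kernel⟩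

theorem cLev_E7 : ∀ k < chevE7.rank, LevOK chevE7 (nrowOf chevE7) k (maskOf chevE7 k) (levOf chevE7 k) (keyOf chevE7 k) := by
  intro k hk
  have hk' : k < 7 := hk
  interval_cases k
  · exact cLev_E7_0
  · exact cLev_E7_1
  · exact cLev_E7_2
  · exact cLev_E7_3
  · exact cLev_E7_4
  · exact cLev_E7_5
  · exact cLev_E7_6

end Cfsg.Agent.Lib.Helper8
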