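import Cfsg.Agent.Lib.Helper8.WeylLev

set_option autoImplicit false

namespace Cfsg.Agent.Lib.Helper8

open Cfsg Cfsg.Lie

theorem cLev_E8_0 : LevOK chevE8 nrowE8 0 maskE8_0 levE8_0 keyE8_0 :=
  ⟨by decide +kernel, by decide +kernel, by decide +kernel⟩

theorem cLev_E8_1 : LevOK chevE8 nrowE8 1 maskE8_1 levE8_1 keyE8_1 :=
  ⟨by decide +kernel, by decide +kernel, by decide +kernel⟩

theorem cLev_E8_2 : LevOK chevE8 nrowE8 2 maskE8_2 levE8_2 keyE8_2 :=
  ⟨by decide +kernel, by decide +kernel, by decide +kernel⟩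

theorem cLev_E8_3 : LevOK chevE8 nrowE8 3 maskE8_3 levE8_3 keyE8_3 :=
  ⟨by decide +kernel, by decide +kernel, by decide +kernel⟩

theorem cLev_E8_4 : LevOK chevE8 nrowE8 4 maskE8_4 levE8_4 keyE8_4 :=
  ⟨by decide +kernel, by decide +kernel, by decide +kernel⟩

theorem cLev_E8_5 : LevOK chevE8 nrowE8 5 maskE8_5 levE8_5 keyE8_5 :=
  ⟨by decide +kernel, by decide +kernel, by decide +kernel⟩

theorem cLev_E8_6 : LevOK chevE8 nrowE8 6 maskE8_6 levE8_6 keyE8_6 :=
  ⟨by decide +kernel, by decide +kernel, by decide +kernel⟩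

theorem cLev_E8_7 : LevOK chevE8 nrowE8 7 maskE8_7 levE8_7 keyE8_7 :=
  ⟨by decide +kernel, by decide +kernel, by decide +kernel⟩

theorem cLev_E8 : ∀ k < chevE8.rank, LevOK chevE8 (nrowOf chevE8) k (maskOf chevE8 k) (levOf chevE8 k) (keyOf chevE8 k) := by
  intro k hk
  have hk' : k < 8 := hk
  interval_cases k
  · exact cLev_E8_0
  · exact cLev_E8_1
  · exact cLev_E8_2
  · exact cLev_E8_3
  · exact cLev_E8_4
  · exact cLev_E8_5
  · exact cLev_E8_6
  · exact cLev_E8_7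

end Cfsg.Agent.Lib.Helper8
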