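import Cfsg.Agent.Lib.Helper8.WeylLev

set_option autoImplicit false

namespace Cfsg.Agent.Lib.Helper8

open Cfsg Cfsg.Lie

theorem cLev_F4_0 : LevOK chevF4 nrowF4 0 maskF4_0 levF4_0 keyF4_0 :=
  ⟨by decide +kernel, by decide +kernel, by decide +kernel⟩

theorem cLev_F4_1 : LevOK chevF4 nrowF4 1 maskF4_1 levF4_1 keyF4_1 :=
  ⟨by decide +kernel, by decide +kernel, by decide +kernel⟩

theorem cLev_F4_2 : LevOK chevF4 nrowF4 2 maskF4_2 levF4_2 keyF4_2 :=
  ⟨by decide +kernel, by decide +kernel, by decide +kernel⟩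

theorem cLev_F4_3 : LevOK chevF4 nrowF4 3 maskF4_3 levF4_3 keyF4_3 :=
  ⟨by decide +kernel, by decide +kernel, by decide +kernel⟩

theorem cLev_F4 : ∀ k < chevF4.rank, LevOK chevF4 (nrowOf chevF4) k (maskOf chevF4 k) (levOf chevF4 k) (keyOf chevF4 k) := by
  intro k hk
  have hk' : k < 4 := hk
  interval_cases k
  · exact cLev_F4_0
  · exact cLev_F4_1
  · exact cLev_F4_2
  · exact cLev_F4_3

end Cfsg.Agent.Lib.Helper8
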