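import Cfsg.Agent.Lib.Helper8.WeylLev

set_option autoImplicit false

namespace Cfsg.Agent.Lib.Helper8

open Cfsg Cfsg.Lie

theorem cLev_G2_0 : LevOK chevG2 nrowG2 0 maskG2_0 levG2_0 keyG2_0 :=
  ⟨by decide +kernel, by decide +kernel, by decide +kernel⟩

theorem cLev_G2_1 : LevOK chevG2 nrowG2 1 maskG2_1 levG2_1 keyG2_1 :=
  ⟨by decide +kernel, by decide +kernel, by decide +kernel⟩

theorem cLev_G2 : ∀ k < chevG2.rank, LevOK chevG2 (nrowOf chevG2) k (maskOf chevG2 k) (levOf chevG2 k) (keyOf chevG2 k) := by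
  intro k hk
  have hk' : k < 2 := hk
  interval_cases k
  · exact cLev_G2_0
  · exact cLev_G2_1

end Cfsg.Agent.Lib.Helper8
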