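import Cfsg.Agent.Lib.Helper8.IdN
import Cfsg.Agent.Lib.Helper8.TabB2

set_option autoImplicit false

namespace Cfsg.Agent.Lib.Helper8

theorem cN_B2_at0 : chkN Cfsg.Lie.chevB2.rank Cfsg.Lie.chevB2.nroots (fun r => treeB2.get r 4) 0 8 = true := by
  decide +kernel

end Cfsg.Agent.Lib.Helper8
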