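import Cfsg.Agent.Lib.Helper8.Chk.N_E6_0

set_option autoImplicit false

namespace Cfsg.Agent.Lib.Helper8

theorem cN_E6 : ∀ r < Cfsg.Lie.chevE6.nroots, ∀ j < Cfsg.Lie.chevE6.rank + Cfsg.Lie.chevE6.nroots,
    chkNcol Cfsg.Lie.chevE6.rank Cfsg.Lie.chevE6.nroots (fun r => treeE6.get r 64) r j = true := by
  intro r hr j hj
  by_cases h0 : r < 24
  · exact chkN_spec cN_E6_at0 (by omega) (by omega) hj
  by_cases h1 : r < 48
  · exact chkN_spec cN_E6_at24 (by omega) (by omega) hj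
  exact chkN_spec cN_E6_at48 (by omega) (by have : Cfsg.Lie.chevE6.nroots = 72 := rfl; omega) hj

end Cfsg.Agent.Lib.Helper8
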