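import Cfsg.Agent.Lib.Helper8.Chk.N_E7_0
import Cfsg.Agent.Lib.Helper8.Chk.N_E7_1

set_option autoImplicit false

namespace Cfsg.Agent.Lib.Helper8

theorem cN_E7 : ∀ r < Cfsg.Lie.chevE7.nroots, ∀ j < Cfsg.Lie.chevE7.rank + Cfsg.Lie.chevE7.nroots,
    chkNcol Cfsg.Lie.chevE7.rank Cfsg.Lie.chevE7.nroots (fun r => treeE7.get r 64) r j = true := by
  intro r hr j hj
  by_cases h0 : r < 21
  · exact chkN_spec cN_E7_at0 (by omega) (by omega) hj
  by_cases h1 : r < 42
  · exact chkN_spec cN_E7_at21 (by omega) (by omega) hj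
  by_cases h2 : r < 63
  · exact chkN_spec cN_E7_at42 (by omega) (by omega) hj
  by_cases h3 : r < 84
  · exact chkN_spec cN_E7_at63 (by omega) (by omega) hj
  by_cases h4 : r < 105
  · exact chkN_spec cN_E7_at84 (by omega) (by omega) hj
  exact chkN_spec cN_E7_at105 (by omega) (by have : Cfsg.Lie.chevE7.nroots = 126 := rfl; omega) hj

end Cfsg.Agent.Lib.Helper8
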