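import Cfsg.Agent.Lib.Helper8.IdN
import Cfsg.Agent.Lib.Helper8.TabE8

set_option autoImplicit false

namespace Cfsg.Agent.Lib.Helper8

theorem cN_E8_at180 : chkN Cfsg.Lie.chevE8.rank Cfsg.Lie.chevE8.nroots (fun r => treeE8.get r 128) 180 12 = true := by
  decide +kernel

theorem cN_E8_at192 : chkN Cfsg.Lie.chevE8.rank Cfsg.Lie.chevE8.nroots (fun r => treeE8.get r 128) 192 12 = true := by
  decide +kernel

theorem cN_E8_at204 : chkN Cfsg.Lie.chevE8.rank Cfsg.Lie.chevE8.nroots (fun r => treeE8.get r 128) 204 12 = true := by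
  decide +kernel

theorem cN_E8_at216 : chkN Cfsg.Lie.chevE8.rank Cfsg.Lie.chevE8.nroots (fun r => treeE8.get r 128) 216 12 = true := by
  decide +kernel

theorem cN_E8_at228 : chkN Cfsg.Lie.chevE8.rank Cfsg.Lie.chevE8.nroots (fun r => treeE8.get r 128) 228 12 = true := by
  decide +kernel

end Cfsg.Agent.Lib.Helper8
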