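import Cfsg.Agent.Lib.Helper8.Chk.N_E8_0
import Cfsg.Agent.Lib.Helper8.Chk.N_E8_1
import Cfsg.Agent.Lib.Helper8.Chk.N_E8_2
import Cfsg.Agent.Lib.Helper8.Chk.N_E8_3

set_option autoImplicit false

namespace Cfsg.Agent.Lib.Helper8

theorem cN_E8 : ∀ r < Cfsg.Lie.chevE8.nroots, ∀ j < Cfsg.Lie.chevE8.rank + Cfsg.Lie.chevE8.nroots,
    chkNcol Cfsg.Lie.chevE8.rank Cfsg.Lie.chevE8.nroots (fun r => treeE8.get r 128) r j = true := by
  intro r hr j hj
  by_cases h0 : r < 12
  · exact chkN_spec cN_E8_at0 (by omega) (by omega) hj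
  by_cases h1 : r < 24
  · exact chkN_spec cN_E8_at12 (by omega) (by omega) hj
  by_cases h2 : r < 36
  · exact chkN_spec cN_E8_at24 (by omega) (by omega) hj
  by_cases h3 : r < 48
  · exact chkN_spec cN_E8_at36 (by omega) (by omega) hj
  by_cases h4 : r < 60
  · exact chkN_spec cN_E8_at48 (by omega) (by omega) hj
  by_cases h5 : r < 72
  · exact chkN_spec cN_E8_at60 (by omega) (by omega) hj
  by_cases h6 : r < 84
  · exact chkN_spec cN_E8_at72 (by omega) (by omega) hj
  by_cases h7 : r < 96
  · exact chkN_spec cN_E8_at84 (by omega) (by omega) hj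
  by_cases h8 : r < 108
  · exact chkN_spec cN_E8_at96 (by omega) (by omega) hj
  by_cases h9 : r < 120
  · exact chkN_spec cN_E8_at108 (by omega) (by omega) hj
  by_cases h10 : r < 132
  · exact chkN_spec cN_E8_at120 (by omega) (by omega) hj
  by_cases h11 : r < 144
  · exact chkN_spec cN_E8_at132 (by omega) (by omega) hj
  by_cases h12 : r < 156
  · exact chkN_spec cN_E8_at144 (by omega) (by omega) hj
  by_cases h13 : r < 168
  · exact chkN_spec cN_E8_at156 (by omega) (by omega) hj
  by_cases h14 : r < 180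
  · exact chkN_spec cN_E8_at168 (by omega) (by omega) hj
  by_cases h15 : r < 192
  · exact chkN_spec cN_E8_at180 (by omega) (by omega) hj
  by_cases h16 : r < 204
  · exact chkN_spec cN_E8_at192 (by omega) (by omega) hj
  by_cases h17 : r < 216
  · exact chkN_spec cN_E8_at204 (by omega) (by omega) hj
  by_cases h18 : r < 228
  · exact chkN_spec cN_E8_at216 (by omega) (by omega) hj
  exact chkN_spec cN_E8_at228 (by omega) (by have : Cfsg.Lie.chevE8.nroots = 240 := rfl; omega) hj

end Cfsg.Agent.Lib.Helper8
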