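import Cfsg.Agent.Lib.Helper8.IdN
import Cfsg.Agent.Lib.Helper8.TabF4

set_option autoImplicit false

namespace Cfsg.Agent.Lib.Helper8

theorem cN_F4_at0 : chkN Cfsg.Lie.chevF4.rank Cfsg.Lie.chevF4.nroots (fun r => treeF4.get r 32) 0 24 = true := by
  decide +kernel

theorem cN_F4_at24 : chkN Cfsg.Lie.chevF4.rank Cfsg.Lie.chevF4.nroots (fun r => treeF4.get r 32) 24 24 = true := by
  decide +kernel

end Cfsg.Agent.Lib.Helper8
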