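import Cfsg.Agent.Lib.Helper8.Chk.R1_D4_0

set_option autoImplicit false

namespace Cfsg.Agent.Lib.Helper8

theorem cR1_D4 : ∀ r < Cfsg.Lie.chevD4.nroots, ∀ j < Cfsg.Lie.chevD4.rank + Cfsg.Lie.chevD4.nroots,
    chkR1col (colFast Cfsg.Lie.chevD4.rank Cfsg.Lie.chevD4.nroots (fun r => treeD4.get r 16)) r j = true := by
  intro r hr j hj
  exact chkR1_spec cR1_D4_at0 (by omega) (by have : Cfsg.Lie.chevD4.nroots = 24 := rfl; omega) hj

end Cfsg.Agent.Lib.Helper8
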