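import Cfsg.Agent.Lib.Helper8.IdR1
import Cfsg.Agent.Lib.Helper8.TabD4

set_option autoImplicit false

namespace Cfsg.Agent.Lib.Helper8

theorem cR1_D4_at0 : chkR1 Cfsg.Lie.chevD4.rank Cfsg.Lie.chevD4.nroots (fun r => treeD4.get r 16) 0 24 = true := by
  decide +kernel

end Cfsg.Agent.Lib.Helper8
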