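import Cfsg.Agent.Lib.Helper8.Chk.R1_E7_0

set_option autoImplicit false

namespace Cfsg.Agent.Lib.Helper8

theorem cR1_E7 : ∀ r < Cfsg.Lie.chevE7.nroots, ∀ j < Cfsg.Lie.chevE7.rank + Cfsg.Lie.chevE7.nroots,
    chkR1col (colFast Cfsg.Lie.chevE7.rank Cfsg.Lie.chevE7.nroots (fun r => treeE7.get r 64)) r j = true := by
  intro r hr j hj
  by_cases h0 : r < 63
  · exact chkR1_spec cR1_E7_at0 (by omega) (by omega) hj
  exact chkR1_spec cR1_E7_at63 (by omega) (by have : Cfsg.Lie.chevE7.nroots = 126 := rfl; omega) hj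

end Cfsg.Agent.Lib.Helper8
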