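import Cfsg.Agent.Lib.Helper8.Chk.R1_E8_0
import Cfsg.Agent.Lib.Helper8.Chk.R1_E8_1

set_option autoImplicit false

namespace Cfsg.Agent.Lib.Helper8

theorem cR1_E8 : ∀ r < Cfsg.Lie.chevE8.nroots, ∀ j < Cfsg.Lie.chevE8.rank + Cfsg.Lie.chevE8.nroots,
    chkR1col (colFast Cfsg.Lie.chevE8.rank Cfsg.Lie.chevE8.nroots (fun r => treeE8.get r 128)) r j = true := by
  intro r hr j hj
  by_cases h0 : r < 40
  · exact chkR1_spec cR1_E8_at0 (by omega) (by omega) hj
  by_cases h1 : r < 80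
  · exact chkR1_spec cR1_E8_at40 (by omega) (by omega) hj
  by_cases h2 : r < 120
  · exact chkR1_spec cR1_E8_at80 (by omega) (by omega) hj
  by_cases h3 : r < 160
  · exact chkR1_spec cR1_E8_at120 (by omega) (by omega) hj
  by_cases h4 : r < 200
  · exact chkR1_spec cR1_E8_at160 (by omega) (by omega) hj
  exact chkR1_spec cR1_E8_at200 (by omega) (by have : Cfsg.Lie.chevE8.nroots = 240 := rfl; omega) hj

end Cfsg.Agent.Lib.Helper8
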