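import Cfsg.Agent.Lib.Helper8.NTabB2

set_option autoImplicit false

namespace Cfsg.Agent.Lib.Helper8

theorem cR3_B2_0_at0 : chkR3 Cfsg.Lie.chevB2.rank Cfsg.Lie.chevB2.nroots (fun r => treeB2.get r 4) nrowB2_0
    (opN1 Cfsg.Lie.chevB2.rank Cfsg.Lie.chevB2.nroots (fun r => treeB2.get r 4) 5) 0 8 = true := by
  decide +kernel

theorem cR3_B2_1_at0 : chkR3 Cfsg.Lie.chevB2.rank Cfsg.Lie.chevB2.nroots (fun r => treeB2.get r 4) nrowB2_1
    (opN1 Cfsg.Lie.chevB2.rank Cfsg.Lie.chevB2.nroots (fun r => treeB2.get r 4) 4) 0 8 = true := by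
  decide +kernel

end Cfsg.Agent.Lib.Helper8
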