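import Cfsg.Agent.Lib.Helper8.Chk.R3_D4_0

set_option autoImplicit false

namespace Cfsg.Agent.Lib.Helper8

theorem cR3_D4_0 : ∀ s < Cfsg.Lie.chevD4.nroots, ∀ j < Cfsg.Lie.chevD4.rank + Cfsg.Lie.chevD4.nroots,
    chkR3col Cfsg.Lie.chevD4.rank Cfsg.Lie.chevD4.nroots (fun r => treeD4.get r 16)
      (opNT Cfsg.Lie.chevD4.rank Cfsg.Lie.chevD4.nroots nrowD4_0
        (opN1 Cfsg.Lie.chevD4.rank Cfsg.Lie.chevD4.nroots (fun r => treeD4.get r 16) 18))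
      s (Nat.land (look9 nrowD4_0 s) 255) (sgn9 (look9 nrowD4_0 s)) j = true := by
  intro s hs j hj
  exact chkR3_spec cR3_D4_0_at0 (by omega) (by have : Cfsg.Lie.chevD4.nroots = 24 := rfl; omega) hj

theorem cR3_D4_1 : ∀ s < Cfsg.Lie.chevD4.nroots, ∀ j < Cfsg.Lie.chevD4.rank + Cfsg.Lie.chevD4.nroots,
    chkR3col Cfsg.Lie.chevD4.rank Cfsg.Lie.chevD4.nroots (fun r => treeD4.get r 16)
      (opNT Cfsg.Lie.chevD4.rank Cfsg.Lie.chevD4.nroots nrowD4_1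
        (opN1 Cfsg.Lie.chevD4.rank Cfsg.Lie.chevD4.nroots (fun r => treeD4.get r 16) 14))
      s (Nat.land (look9 nrowD4_1 s) 255) (sgn9 (look9 nrowD4_1 s)) j = true := by
  intro s hs j hj
  exact chkR3_spec cR3_D4_1_at0 (by omega) (by have : Cfsg.Lie.chevD4.nroots = 24 := rfl; omega) hj

theorem cR3_D4_2 : ∀ s < Cfsg.Lie.chevD4.nroots, ∀ j < Cfsg.Lie.chevD4.rank + Cfsg.Lie.chevD4.nroots,
    chkR3col Cfsg.Lie.chevD4.rank Cfsg.Lie.chevD4.nroots (fun r => treeD4.get r 16)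
      (opNT Cfsg.Lie.chevD4.rank Cfsg.Lie.chevD4.nroots nrowD4_2
        (opN1 Cfsg.Lie.chevD4.rank Cfsg.Lie.chevD4.nroots (fun r => treeD4.get r 16) 13))
      s (Nat.land (look9 nrowD4_2 s) 255) (sgn9 (look9 nrowD4_2 s)) j = true := by
  intro s hs j hj
  exact chkR3_spec cR3_D4_2_at0 (by omega) (by have : Cfsg.Lie.chevD4.nroots = 24 := rfl; omega) hj

theorem cR3_D4_3 : ∀ s < Cfsg.Lie.chevD4.nroots, ∀ j < Cfsg.Lie.chevD4.rank + Cfsg.Lie.chevD4.nroots,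
    chkR3col Cfsg.Lie.chevD4.rank Cfsg.Lie.chevD4.nroots (fun r => treeD4.get r 16)
      (opNT Cfsg.Lie.chevD4.rank Cfsg.Lie.chevD4.nroots nrowD4_3
        (opN1 Cfsg.Lie.chevD4.rank Cfsg.Lie.chevD4.nroots (fun r => treeD4.get r 16) 12))
      s (Nat.land (look9 nrowD4_3 s) 255) (sgn9 (look9 nrowD4_3 s)) j = true := by
  intro s hs j hj
  exact chkR3_spec cR3_D4_3_at0 (by omega) (by have : Cfsg.Lie.chevD4.nroots = 24 := rfl; omega) hj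


theorem cR3_D4 : R3OK Cfsg.Lie.chevD4 (fun r => treeD4.get r 16) nrowD4 := by
  intro i hi
  by_cases h0 : i = 0
  · subst h0; exact ⟨nrowD4_ok_0, cR3_D4_0⟩
  by_cases h1 : i = 1
  · subst h1; exact ⟨nrowD4_ok_1, cR3_D4_1⟩
  by_cases h2 : i = 2
  · subst h2; exact ⟨nrowD4_ok_2, cR3_D4_2⟩
  have h3 : i = 3 := by have : Cfsg.Lie.chevD4.rank = 4 := rfl; omega
  subst h3; exact ⟨nrowD4_ok_3, cR3_D4_3⟩

end Cfsg.Agent.Lib.Helper8
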