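import Cfsg.Agent.Lib.Helper8.NTabD4

set_option autoImplicit false

namespace Cfsg.Agent.Lib.Helper8

theorem cR3_D4_0_at0 : chkR3 Cfsg.Lie.chevD4.rank Cfsg.Lie.chevD4.nroots (fun r => treeD4.get r 16) nrowD4_0
    (opN1 Cfsg.Lie.chevD4.rank Cfsg.Lie.chevD4.nroots (fun r => treeD4.get r 16) 18) 0 24 = true := by
  decide +kernel

theorem cR3_D4_1_at0 : chkR3 Cfsg.Lie.chevD4.rank Cfsg.Lie.chevD4.nroots (fun r => treeD4.get r 16) nrowD4_1
    (opN1 Cfsg.Lie.chevD4.rank Cfsg.Lie.chevD4.nroots (fun r => treeD4.get r 16) 14) 0 24 = true := by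
  decide +kernel

theorem cR3_D4_2_at0 : chkR3 Cfsg.Lie.chevD4.rank Cfsg.Lie.chevD4.nroots (fun r => treeD4.get r 16) nrowD4_2
    (opN1 Cfsg.Lie.chevD4.rank Cfsg.Lie.chevD4.nroots (fun r => treeD4.get r 16) 13) 0 24 = true := by
  decide +kernel

theorem cR3_D4_3_at0 : chkR3 Cfsg.Lie.chevD4.rank Cfsg.Lie.chevD4.nroots (fun r => treeD4.get r 16) nrowD4_3
    (opN1 Cfsg.Lie.chevD4.rank Cfsg.Lie.chevD4.nroots (fun r => treeD4.get r 16) 12) 0 24 = true := by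
  decide +kernel

end Cfsg.Agent.Lib.Helper8
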