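import Cfsg.Agent.Lib.Helper8.NTabE6

set_option autoImplicit false

namespace Cfsg.Agent.Lib.Helper8

theorem cR3_E6_3_at0 : chkR3 Cfsg.Lie.chevE6.rank Cfsg.Lie.chevE6.nroots (fun r => treeE6.get r 64) nrowE6_3
    (opN1 Cfsg.Lie.chevE6.rank Cfsg.Lie.chevE6.nroots (fun r => treeE6.get r 64) 39) 0 72 = true := by
  decide +kernel

theorem cR3_E6_4_at0 : chkR3 Cfsg.Lie.chevE6.rank Cfsg.Lie.chevE6.nroots (fun r => treeE6.get r 64) nrowE6_4
    (opN1 Cfsg.Lie.chevE6.rank Cfsg.Lie.chevE6.nroots (fun r => treeE6.get r 64) 37) 0 72 = true := by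
  decide +kernel

theorem cR3_E6_5_at0 : chkR3 Cfsg.Lie.chevE6.rank Cfsg.Lie.chevE6.nroots (fun r => treeE6.get r 64) nrowE6_5
    (opN1 Cfsg.Lie.chevE6.rank Cfsg.Lie.chevE6.nroots (fun r => treeE6.get r 64) 36) 0 72 = true := by
  decide +kernel

end Cfsg.Agent.Lib.Helper8
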