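import Cfsg.Agent.Lib.Helper8.Chk.R3_E6_0
import Cfsg.Agent.Lib.Helper8.Chk.R3_E6_1

set_option autoImplicit false

namespace Cfsg.Agent.Lib.Helper8

theorem cR3_E6_0 : ∀ s < Cfsg.Lie.chevE6.nroots, ∀ j < Cfsg.Lie.chevE6.rank + Cfsg.Lie.chevE6.nroots,
    chkR3col Cfsg.Lie.chevE6.rank Cfsg.Lie.chevE6.nroots (fun r => treeE6.get r 64)
      (opNT Cfsg.Lie.chevE6.rank Cfsg.Lie.chevE6.nroots nrowE6_0
        (opN1 Cfsg.Lie.chevE6.rank Cfsg.Lie.chevE6.nroots (fun r => treeE6.get r 64) 56))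
      s (Nat.land (look9 nrowE6_0 s) 255) (sgn9 (look9 nrowE6_0 s)) j = true := by
  intro s hs j hj
  exact chkR3_spec cR3_E6_0_at0 (by omega) (by have : Cfsg.Lie.chevE6.nroots = 72 := rfl; omega) hj

theorem cR3_E6_1 : ∀ s < Cfsg.Lie.chevE6.nroots, ∀ j < Cfsg.Lie.chevE6.rank + Cfsg.Lie.chevE6.nroots,
    chkR3col Cfsg.Lie.chevE6.rank Cfsg.Lie.chevE6.nroots (fun r => treeE6.get r 64)
      (opNT Cfsg.Lie.chevE6.rank Cfsg.Lie.chevE6.nroots nrowE6_1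
        (opN1 Cfsg.Lie.chevE6.rank Cfsg.Lie.chevE6.nroots (fun r => treeE6.get r 64) 46))
      s (Nat.land (look9 nrowE6_1 s) 255) (sgn9 (look9 nrowE6_1 s)) j = true := by
  intro s hs j hj
  exact chkR3_spec cR3_E6_1_at0 (by omega) (by have : Cfsg.Lie.chevE6.nroots = 72 := rfl; omega) hj

theorem cR3_E6_2 : ∀ s < Cfsg.Lie.chevE6.nroots, ∀ j < Cfsg.Lie.chevE6.rank + Cfsg.Lie.chevE6.nroots,
    chkR3col Cfsg.Lie.chevE6.rank Cfsg.Lie.chevE6.nroots (fun r => treeE6.get r 64)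
      (opNT Cfsg.Lie.chevE6.rank Cfsg.Lie.chevE6.nroots nrowE6_2
        (opN1 Cfsg.Lie.chevE6.rank Cfsg.Lie.chevE6.nroots (fun r => treeE6.get r 64) 42))
      s (Nat.land (look9 nrowE6_2 s) 255) (sgn9 (look9 nrowE6_2 s)) j = true := by
  intro s hs j hj
  exact chkR3_spec cR3_E6_2_at0 (by omega) (by have : Cfsg.Lie.chevE6.nroots = 72 := rfl; omega) hj

theorem cR3_E6_3 : ∀ s < Cfsg.Lie.chevE6.nroots, ∀ j < Cfsg.Lie.chevE6.rank + Cfsg.Lie.chevE6.nroots,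
    chkR3col Cfsg.Lie.chevE6.rank Cfsg.Lie.chevE6.nroots (fun r => treeE6.get r 64)
      (opNT Cfsg.Lie.chevE6.rank Cfsg.Lie.chevE6.nroots nrowE6_3
        (opN1 Cfsg.Lie.chevE6.rank Cfsg.Lie.chevE6.nroots (fun r => treeE6.get r 64) 39))
      s (Nat.land (look9 nrowE6_3 s) 255) (sgn9 (look9 nrowE6_3 s)) j = true := by
  intro s hs j hj
  exact chkR3_spec cR3_E6_3_at0 (by omega) (by have : Cfsg.Lie.chevE6.nroots = 72 := rfl; omega) hj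

theorem cR3_E6_4 : ∀ s < Cfsg.Lie.chevE6.nroots, ∀ j < Cfsg.Lie.chevE6.rank + Cfsg.Lie.chevE6.nroots,
    chkR3col Cfsg.Lie.chevE6.rank Cfsg.Lie.chevE6.nroots (fun r => treeE6.get r 64)
      (opNT Cfsg.Lie.chevE6.rank Cfsg.Lie.chevE6.nroots nrowE6_4
        (opN1 Cfsg.Lie.chevE6.rank Cfsg.Lie.chevE6.nroots (fun r => treeE6.get r 64) 37))
      s (Nat.land (look9 nrowE6_4 s) 255) (sgn9 (look9 nrowE6_4 s)) j = true := by
  intro s hs j hj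
  exact chkR3_spec cR3_E6_4_at0 (by omega) (by have : Cfsg.Lie.chevE6.nroots = 72 := rfl; omega) hj

theorem cR3_E6_5 : ∀ s < Cfsg.Lie.chevE6.nroots, ∀ j < Cfsg.Lie.chevE6.rank + Cfsg.Lie.chevE6.nroots,
    chkR3col Cfsg.Lie.chevE6.rank Cfsg.Lie.chevE6.nroots (fun r => treeE6.get r 64)
      (opNT Cfsg.Lie.chevE6.rank Cfsg.Lie.chevE6.nroots nrowE6_5
        (opN1 Cfsg.Lie.chevE6.rank Cfsg.Lie.chevE6.nroots (fun r => treeE6.get r 64) 36))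
      s (Nat.land (look9 nrowE6_5 s) 255) (sgn9 (look9 nrowE6_5 s)) j = true := by
  intro s hs j hj
  exact chkR3_spec cR3_E6_5_at0 (by omega) (by have : Cfsg.Lie.chevE6.nroots = 72 := rfl; omega) hj


theorem cR3_E6 : R3OK Cfsg.Lie.chevE6 (fun r => treeE6.get r 64) nrowE6 := by
  intro i hi
  by_cases h0 : i = 0
  · subst h0; exact ⟨nrowE6_ok_0, cR3_E6_0⟩
  by_cases h1 : i = 1
  · subst h1; exact ⟨nrowE6_ok_1, cR3_E6_1⟩
  by_cases h2 : i = 2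
  · subst h2; exact ⟨nrowE6_ok_2, cR3_E6_2⟩
  by_cases h3 : i = 3
  · subst h3; exact ⟨nrowE6_ok_3, cR3_E6_3⟩
  by_cases h4 : i = 4
  · subst h4; exact ⟨nrowE6_ok_4, cR3_E6_4⟩
  have h5 : i = 5 := by have : Cfsg.Lie.chevE6.rank = 6 := rfl; omega
  subst h5; exact ⟨nrowE6_ok_5, cR3_E6_5⟩

end Cfsg.Agent.Lib.Helper8
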