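import Cfsg.Agent.Lib.Helper8.NTabE6

set_option autoImplicit false

namespace Cfsg.Agent.Lib.Helper8

theorem cR3_E6_0_at0 : chkR3 Cfsg.Lie.chevE6.rank Cfsg.Lie.chevE6.nroots (fun r => treeE6.get r 64) nrowE6_0
    (opN1 Cfsg.Lie.chevE6.rank Cfsg.Lie.chevE6.nroots (fun r => treeE6.get r 64) 56) 0 72 = true := by
  decide +kernel

theorem cR3_E6_1_at0 : chkR3 Cfsg.Lie.chevE6.rank Cfsg.Lie.chevE6.nroots (fun r => treeE6.get r 64) nrowE6_1
    (opN1 Cfsg.Lie.chevE6.rank Cfsg.Lie.chevE6.nroots (fun r => treeE6.get r 64) 46) 0 72 = true := by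
  decide +kernel

theorem cR3_E6_2_at0 : chkR3 Cfsg.Lie.chevE6.rank Cfsg.Lie.chevE6.nroots (fun r => treeE6.get r 64) nrowE6_2
    (opN1 Cfsg.Lie.chevE6.rank Cfsg.Lie.chevE6.nroots (fun r => treeE6.get r 64) 42) 0 72 = true := by
  decide +kernel

end Cfsg.Agent.Lib.Helper8
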