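import Cfsg.Agent.Lib.Helper8.NTabE7

set_option autoImplicit false

namespace Cfsg.Agent.Lib.Helper8

theorem cR3_E7_6_at0 : chkR3 Cfsg.Lie.chevE7.rank Cfsg.Lie.chevE7.nroots (fun r => treeE7.get r 64) nrowE7_6
    (opN1 Cfsg.Lie.chevE7.rank Cfsg.Lie.chevE7.nroots (fun r => treeE7.get r 64) 63) 0 126 = true := by
  decide +kernel

end Cfsg.Agent.Lib.Helper8
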