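import Cfsg.Agent.Lib.Helper8.Chk.R3_E7_0
import Cfsg.Agent.Lib.Helper8.Chk.R3_E7_1
import Cfsg.Agent.Lib.Helper8.Chk.R3_E7_2
import Cfsg.Agent.Lib.Helper8.Chk.R3_E7_3

set_option autoImplicit false

namespace Cfsg.Agent.Lib.Helper8

theorem cR3_E7_0 : ∀ s < Cfsg.Lie.chevE7.nroots, ∀ j < Cfsg.Lie.chevE7.rank + Cfsg.Lie.chevE7.nroots,
    chkR3col Cfsg.Lie.chevE7.rank Cfsg.Lie.chevE7.nroots (fun r => treeE7.get r 64)
      (opNT Cfsg.Lie.chevE7.rank Cfsg.Lie.chevE7.nroots nrowE7_0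
        (opN1 Cfsg.Lie.chevE7.rank Cfsg.Lie.chevE7.nroots (fun r => treeE7.get r 64) 93))
      s (Nat.land (look9 nrowE7_0 s) 255) (sgn9 (look9 nrowE7_0 s)) j = true := by
  intro s hs j hj
  exact chkR3_spec cR3_E7_0_at0 (by omega) (by have : Cfsg.Lie.chevE7.nroots = 126 := rfl; omega) hj

theorem cR3_E7_1 : ∀ s < Cfsg.Lie.chevE7.nroots, ∀ j < Cfsg.Lie.chevE7.rank + Cfsg.Lie.chevE7.nroots,
    chkR3col Cfsg.Lie.chevE7.rank Cfsg.Lie.chevE7.nroots (fun r => treeE7.get r 64)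
      (opNT Cfsg.Lie.chevE7.rank Cfsg.Lie.chevE7.nroots nrowE7_1
        (opN1 Cfsg.Lie.chevE7.rank Cfsg.Lie.chevE7.nroots (fun r => treeE7.get r 64) 78))
      s (Nat.land (look9 nrowE7_1 s) 255) (sgn9 (look9 nrowE7_1 s)) j = true := by
  intro s hs j hj
  exact chkR3_spec cR3_E7_1_at0 (by omega) (by have : Cfsg.Lie.chevE7.nroots = 126 := rfl; omega) hj

theorem cR3_E7_2 : ∀ s < Cfsg.Lie.chevE7.nroots, ∀ j < Cfsg.Lie.chevE7.rank + Cfsg.Lie.chevE7.nroots,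
    chkR3col Cfsg.Lie.chevE7.rank Cfsg.Lie.chevE7.nroots (fun r => treeE7.get r 64)
      (opNT Cfsg.Lie.chevE7.rank Cfsg.Lie.chevE7.nroots nrowE7_2
        (opN1 Cfsg.Lie.chevE7.rank Cfsg.Lie.chevE7.nroots (fun r => treeE7.get r 64) 73))
      s (Nat.land (look9 nrowE7_2 s) 255) (sgn9 (look9 nrowE7_2 s)) j = true := by
  intro s hs j hj
  exact chkR3_spec cR3_E7_2_at0 (by omega) (by have : Cfsg.Lie.chevE7.nroots = 126 := rfl; omega) hj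

theorem cR3_E7_3 : ∀ s < Cfsg.Lie.chevE7.nroots, ∀ j < Cfsg.Lie.chevE7.rank + Cfsg.Lie.chevE7.nroots,
    chkR3col Cfsg.Lie.chevE7.rank Cfsg.Lie.chevE7.nroots (fun r => treeE7.get r 64)
      (opNT Cfsg.Lie.chevE7.rank Cfsg.Lie.chevE7.nroots nrowE7_3
        (opN1 Cfsg.Lie.chevE7.rank Cfsg.Lie.chevE7.nroots (fun r => treeE7.get r 64) 69))
      s (Nat.land (look9 nrowE7_3 s) 255) (sgn9 (look9 nrowE7_3 s)) j = true := by
  intro s hs j hj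
  exact chkR3_spec cR3_E7_3_at0 (by omega) (by have : Cfsg.Lie.chevE7.nroots = 126 := rfl; omega) hj

theorem cR3_E7_4 : ∀ s < Cfsg.Lie.chevE7.nroots, ∀ j < Cfsg.Lie.chevE7.rank + Cfsg.Lie.chevE7.nroots,
    chkR3col Cfsg.Lie.chevE7.rank Cfsg.Lie.chevE7.nroots (fun r => treeE7.get r 64)
      (opNT Cfsg.Lie.chevE7.rank Cfsg.Lie.chevE7.nroots nrowE7_4
        (opN1 Cfsg.Lie.chevE7.rank Cfsg.Lie.chevE7.nroots (fun r => treeE7.get r 64) 66))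
      s (Nat.land (look9 nrowE7_4 s) 255) (sgn9 (look9 nrowE7_4 s)) j = true := by
  intro s hs j hj
  exact chkR3_spec cR3_E7_4_at0 (by omega) (by have : Cfsg.Lie.chevE7.nroots = 126 := rfl; omega) hj

theorem cR3_E7_5 : ∀ s < Cfsg.Lie.chevE7.nroots, ∀ j < Cfsg.Lie.chevE7.rank + Cfsg.Lie.chevE7.nroots,
    chkR3col Cfsg.Lie.chevE7.rank Cfsg.Lie.chevE7.nroots (fun r => treeE7.get r 64)
      (opNT Cfsg.Lie.chevE7.rank Cfsg.Lie.chevE7.nroots nrowE7_5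
        (opN1 Cfsg.Lie.chevE7.rank Cfsg.Lie.chevE7.nroots (fun r => treeE7.get r 64) 64))
      s (Nat.land (look9 nrowE7_5 s) 255) (sgn9 (look9 nrowE7_5 s)) j = true := by
  intro s hs j hj
  exact chkR3_spec cR3_E7_5_at0 (by omega) (by have : Cfsg.Lie.chevE7.nroots = 126 := rfl; omega) hj

theorem cR3_E7_6 : ∀ s < Cfsg.Lie.chevE7.nroots, ∀ j < Cfsg.Lie.chevE7.rank + Cfsg.Lie.chevE7.nroots,
    chkR3col Cfsg.Lie.chevE7.rank Cfsg.Lie.chevE7.nroots (fun r => treeE7.get r 64)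
      (opNT Cfsg.Lie.chevE7.rank Cfsg.Lie.chevE7.nroots nrowE7_6
        (opN1 Cfsg.Lie.chevE7.rank Cfsg.Lie.chevE7.nroots (fun r => treeE7.get r 64) 63))
      s (Nat.land (look9 nrowE7_6 s) 255) (sgn9 (look9 nrowE7_6 s)) j = true := by
  intro s hs j hj
  exact chkR3_spec cR3_E7_6_at0 (by omega) (by have : Cfsg.Lie.chevE7.nroots = 126 := rfl; omega) hj


theorem cR3_E7 : R3OK Cfsg.Lie.chevE7 (fun r => treeE7.get r 64) nrowE7 := by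
  intro i hi
  by_cases h0 : i = 0
  · subst h0; exact ⟨nrowE7_ok_0, cR3_E7_0⟩
  by_cases h1 : i = 1
  · subst h1; exact ⟨nrowE7_ok_1, cR3_E7_1⟩
  by_cases h2 : i = 2
  · subst h2; exact ⟨nrowE7_ok_2, cR3_E7_2⟩
  by_cases h3 : i = 3
  · subst h3; exact ⟨nrowE7_ok_3, cR3_E7_3⟩
  by_cases h4 : i = 4
  · subst h4; exact ⟨nrowE7_ok_4, cR3_E7_4⟩
  by_cases h5 : i = 5
  · subst h5; exact ⟨nrowE7_ok_5, cR3_E7_5⟩
  have h6 : i = 6 := by have : Cfsg.Lie.chevE7.rank = 7 := rfl; omega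
  subst h6; exact ⟨nrowE7_ok_6, cR3_E7_6⟩

end Cfsg.Agent.Lib.Helper8
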