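import Cfsg.Agent.Lib.Helper8.Chk.R3_E8_0
import Cfsg.Agent.Lib.Helper8.Chk.R3_E8_1
import Cfsg.Agent.Lib.Helper8.Chk.R3_E8_2
import Cfsg.Agent.Lib.Helper8.Chk.R3_E8_3
import Cfsg.Agent.Lib.Helper8.Chk.R3_E8_4
import Cfsg.Agent.Lib.Helper8.Chk.R3_E8_5
import Cfsg.Agent.Lib.Helper8.Chk.R3_E8_6
import Cfsg.Agent.Lib.Helper8.Chk.R3_E8_7

set_option autoImplicit false

namespace Cfsg.Agent.Lib.Helper8

theorem cR3_E8_0 : ∀ s < Cfsg.Lie.chevE8.nroots, ∀ j < Cfsg.Lie.chevE8.rank + Cfsg.Lie.chevE8.nroots,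
    chkR3col Cfsg.Lie.chevE8.rank Cfsg.Lie.chevE8.nroots (fun r => treeE8.get r 128)
      (opNT Cfsg.Lie.chevE8.rank Cfsg.Lie.chevE8.nroots nrowE8_0
        (opN1 Cfsg.Lie.chevE8.rank Cfsg.Lie.chevE8.nroots (fun r => treeE8.get r 128) 162))
      s (Nat.land (look9 nrowE8_0 s) 255) (sgn9 (look9 nrowE8_0 s)) j = true := by
  intro s hs j hj
  by_cases h0 : s < 60
  · exact chkR3_spec cR3_E8_0_at0 (by omega) (by omega) hj
  by_cases h1 : s < 120
  · exact chkR3_spec cR3_E8_0_at60 (by omega) (by omega) hj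
  by_cases h2 : s < 180
  · exact chkR3_spec cR3_E8_0_at120 (by omega) (by omega) hj
  exact chkR3_spec cR3_E8_0_at180 (by omega) (by have : Cfsg.Lie.chevE8.nroots = 240 := rfl; omega) hj

theorem cR3_E8_1 : ∀ s < Cfsg.Lie.chevE8.nroots, ∀ j < Cfsg.Lie.chevE8.rank + Cfsg.Lie.chevE8.nroots,
    chkR3col Cfsg.Lie.chevE8.rank Cfsg.Lie.chevE8.nroots (fun r => treeE8.get r 128)
      (opNT Cfsg.Lie.chevE8.rank Cfsg.Lie.chevE8.nroots nrowE8_1
        (opN1 Cfsg.Lie.chevE8.rank Cfsg.Lie.chevE8.nroots (fun r => treeE8.get r 128) 141))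
      s (Nat.land (look9 nrowE8_1 s) 255) (sgn9 (look9 nrowE8_1 s)) j = true := by
  intro s hs j hj
  by_cases h0 : s < 60
  · exact chkR3_spec cR3_E8_1_at0 (by omega) (by omega) hj
  by_cases h1 : s < 120
  · exact chkR3_spec cR3_E8_1_at60 (by omega) (by omega) hj
  by_cases h2 : s < 180
  · exact chkR3_spec cR3_E8_1_at120 (by omega) (by omega) hj
  exact chkR3_spec cR3_E8_1_at180 (by omega) (by have : Cfsg.Lie.chevE8.nroots = 240 := rfl; omega) hj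

theorem cR3_E8_2 : ∀ s < Cfsg.Lie.chevE8.nroots, ∀ j < Cfsg.Lie.chevE8.rank + Cfsg.Lie.chevE8.nroots,
    chkR3col Cfsg.Lie.chevE8.rank Cfsg.Lie.chevE8.nroots (fun r => treeE8.get r 128)
      (opNT Cfsg.Lie.chevE8.rank Cfsg.Lie.chevE8.nroots nrowE8_2
        (opN1 Cfsg.Lie.chevE8.rank Cfsg.Lie.chevE8.nroots (fun r => treeE8.get r 128) 135))
      s (Nat.land (look9 nrowE8_2 s) 255) (sgn9 (look9 nrowE8_2 s)) j = true := by
  intro s hs j hj
  by_cases h0 : s < 60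
  · exact chkR3_spec cR3_E8_2_at0 (by omega) (by omega) hj
  by_cases h1 : s < 120
  · exact chkR3_spec cR3_E8_2_at60 (by omega) (by omega) hj
  by_cases h2 : s < 180
  · exact chkR3_spec cR3_E8_2_at120 (by omega) (by omega) hj
  exact chkR3_spec cR3_E8_2_at180 (by omega) (by have : Cfsg.Lie.chevE8.nroots = 240 := rfl; omega) hj

theorem cR3_E8_3 : ∀ s < Cfsg.Lie.chevE8.nroots, ∀ j < Cfsg.Lie.chevE8.rank + Cfsg.Lie.chevE8.nroots,
    chkR3col Cfsg.Lie.chevE8.rank Cfsg.Lie.chevE8.nroots (fun r => treeE8.get r 128)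
      (opNT Cfsg.Lie.chevE8.rank Cfsg.Lie.chevE8.nroots nrowE8_3
        (opN1 Cfsg.Lie.chevE8.rank Cfsg.Lie.chevE8.nroots (fun r => treeE8.get r 128) 130))
      s (Nat.land (look9 nrowE8_3 s) 255) (sgn9 (look9 nrowE8_3 s)) j = true := by
  intro s hs j hj
  by_cases h0 : s < 60
  · exact chkR3_spec cR3_E8_3_at0 (by omega) (by omega) hj
  by_cases h1 : s < 120
  · exact chkR3_spec cR3_E8_3_at60 (by omega) (by omega) hj
  by_cases h2 : s < 180
  · exact chkR3_spec cR3_E8_3_at120 (by omega) (by omega) hj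
  exact chkR3_spec cR3_E8_3_at180 (by omega) (by have : Cfsg.Lie.chevE8.nroots = 240 := rfl; omega) hj

theorem cR3_E8_4 : ∀ s < Cfsg.Lie.chevE8.nroots, ∀ j < Cfsg.Lie.chevE8.rank + Cfsg.Lie.chevE8.nroots,
    chkR3col Cfsg.Lie.chevE8.rank Cfsg.Lie.chevE8.nroots (fun r => treeE8.get r 128)
      (opNT Cfsg.Lie.chevE8.rank Cfsg.Lie.chevE8.nroots nrowE8_4
        (opN1 Cfsg.Lie.chevE8.rank Cfsg.Lie.chevE8.nroots (fun r => treeE8.get r 128) 126))
      s (Nat.land (look9 nrowE8_4 s) 255) (sgn9 (look9 nrowE8_4 s)) j = true := by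
  intro s hs j hj
  by_cases h0 : s < 60
  · exact chkR3_spec cR3_E8_4_at0 (by omega) (by omega) hj
  by_cases h1 : s < 120
  · exact chkR3_spec cR3_E8_4_at60 (by omega) (by omega) hj
  by_cases h2 : s < 180
  · exact chkR3_spec cR3_E8_4_at120 (by omega) (by omega) hj
  exact chkR3_spec cR3_E8_4_at180 (by omega) (by have : Cfsg.Lie.chevE8.nroots = 240 := rfl; omega) hj

theorem cR3_E8_5 : ∀ s < Cfsg.Lie.chevE8.nroots, ∀ j < Cfsg.Lie.chevE8.rank + Cfsg.Lie.chevE8.nroots,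
    chkR3col Cfsg.Lie.chevE8.rank Cfsg.Lie.chevE8.nroots (fun r => treeE8.get r 128)
      (opNT Cfsg.Lie.chevE8.rank Cfsg.Lie.chevE8.nroots nrowE8_5
        (opN1 Cfsg.Lie.chevE8.rank Cfsg.Lie.chevE8.nroots (fun r => treeE8.get r 128) 123))
      s (Nat.land (look9 nrowE8_5 s) 255) (sgn9 (look9 nrowE8_5 s)) j = true := by
  intro s hs j hj
  by_cases h0 : s < 60
  · exact chkR3_spec cR3_E8_5_at0 (by omega) (by omega) hj
  by_cases h1 : s < 120
  · exact chkR3_spec cR3_E8_5_at60 (by omega) (by omega) hj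
  by_cases h2 : s < 180
  · exact chkR3_spec cR3_E8_5_at120 (by omega) (by omega) hj
  exact chkR3_spec cR3_E8_5_at180 (by omega) (by have : Cfsg.Lie.chevE8.nroots = 240 := rfl; omega) hj

theorem cR3_E8_6 : ∀ s < Cfsg.Lie.chevE8.nroots, ∀ j < Cfsg.Lie.chevE8.rank + Cfsg.Lie.chevE8.nroots,
    chkR3col Cfsg.Lie.chevE8.rank Cfsg.Lie.chevE8.nroots (fun r => treeE8.get r 128)
      (opNT Cfsg.Lie.chevE8.rank Cfsg.Lie.chevE8.nroots nrowE8_6
        (opN1 Cfsg.Lie.chevE8.rank Cfsg.Lie.chevE8.nroots (fun r => treeE8.get r 128) 121))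
      s (Nat.land (look9 nrowE8_6 s) 255) (sgn9 (look9 nrowE8_6 s)) j = true := by
  intro s hs j hj
  by_cases h0 : s < 60
  · exact chkR3_spec cR3_E8_6_at0 (by omega) (by omega) hj
  by_cases h1 : s < 120
  · exact chkR3_spec cR3_E8_6_at60 (by omega) (by omega) hj
  by_cases h2 : s < 180
  · exact chkR3_spec cR3_E8_6_at120 (by omega) (by omega) hj
  exact chkR3_spec cR3_E8_6_at180 (by omega) (by have : Cfsg.Lie.chevE8.nroots = 240 := rfl; omega) hj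

theorem cR3_E8_7 : ∀ s < Cfsg.Lie.chevE8.nroots, ∀ j < Cfsg.Lie.chevE8.rank + Cfsg.Lie.chevE8.nroots,
    chkR3col Cfsg.Lie.chevE8.rank Cfsg.Lie.chevE8.nroots (fun r => treeE8.get r 128)
      (opNT Cfsg.Lie.chevE8.rank Cfsg.Lie.chevE8.nroots nrowE8_7
        (opN1 Cfsg.Lie.chevE8.rank Cfsg.Lie.chevE8.nroots (fun r => treeE8.get r 128) 120))
      s (Nat.land (look9 nrowE8_7 s) 255) (sgn9 (look9 nrowE8_7 s)) j = true := by
  intro s hs j hj
  by_cases h0 : s < 60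
  · exact chkR3_spec cR3_E8_7_at0 (by omega) (by omega) hj
  by_cases h1 : s < 120
  · exact chkR3_spec cR3_E8_7_at60 (by omega) (by omega) hj
  by_cases h2 : s < 180
  · exact chkR3_spec cR3_E8_7_at120 (by omega) (by omega) hj
  exact chkR3_spec cR3_E8_7_at180 (by omega) (by have : Cfsg.Lie.chevE8.nroots = 240 := rfl; omega) hj


theorem cR3_E8 : R3OK Cfsg.Lie.chevE8 (fun r => treeE8.get r 128) nrowE8 := by
  intro i hi
  by_cases h0 : i = 0
  · subst h0; exact ⟨nrowE8_ok_0, cR3_E8_0⟩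
  by_cases h1 : i = 1
  · subst h1; exact ⟨nrowE8_ok_1, cR3_E8_1⟩
  by_cases h2 : i = 2
  · subst h2; exact ⟨nrowE8_ok_2, cR3_E8_2⟩
  by_cases h3 : i = 3
  · subst h3; exact ⟨nrowE8_ok_3, cR3_E8_3⟩
  by_cases h4 : i = 4
  · subst h4; exact ⟨nrowE8_ok_4, cR3_E8_4⟩
  by_cases h5 : i = 5
  · subst h5; exact ⟨nrowE8_ok_5, cR3_E8_5⟩
  by_cases h6 : i = 6
  · subst h6; exact ⟨nrowE8_ok_6, cR3_E8_6⟩
  have h7 : i = 7 := by have : Cfsg.Lie.chevE8.rank = 8 := rfl; omega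
  subst h7; exact ⟨nrowE8_ok_7, cR3_E8_7⟩

end Cfsg.Agent.Lib.Helper8
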