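import Cfsg.Agent.Lib.Helper8.NTabE8

set_option autoImplicit false

namespace Cfsg.Agent.Lib.Helper8

theorem cR3_E8_0_at0 : chkR3 Cfsg.Lie.chevE8.rank Cfsg.Lie.chevE8.nroots (fun r => treeE8.get r 128) nrowE8_0
    (opN1 Cfsg.Lie.chevE8.rank Cfsg.Lie.chevE8.nroots (fun r => treeE8.get r 128) 162) 0 60 = true := by
  decide +kernel

theorem cR3_E8_0_at60 : chkR3 Cfsg.Lie.chevE8.rank Cfsg.Lie.chevE8.nroots (fun r => treeE8.get r 128) nrowE8_0
    (opN1 Cfsg.Lie.chevE8.rank Cfsg.Lie.chevE8.nroots (fun r => treeE8.get r 128) 162) 60 60 = true := by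
  decide +kernel

theorem cR3_E8_0_at120 : chkR3 Cfsg.Lie.chevE8.rank Cfsg.Lie.chevE8.nroots (fun r => treeE8.get r 128) nrowE8_0
    (opN1 Cfsg.Lie.chevE8.rank Cfsg.Lie.chevE8.nroots (fun r => treeE8.get r 128) 162) 120 60 = true := by
  decide +kernel

theorem cR3_E8_0_at180 : chkR3 Cfsg.Lie.chevE8.rank Cfsg.Lie.chevE8.nroots (fun r => treeE8.get r 128) nrowE8_0
    (opN1 Cfsg.Lie.chevE8.rank Cfsg.Lie.chevE8.nroots (fun r => treeE8.get r 128) 162) 180 60 = true := by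
  decide +kernel

end Cfsg.Agent.Lib.Helper8
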