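import Cfsg.Agent.Lib.Helper8.NTabF4

set_option autoImplicit false

namespace Cfsg.Agent.Lib.Helper8

theorem cR3_F4_0_at0 : chkR3 Cfsg.Lie.chevF4.rank Cfsg.Lie.chevF4.nroots (fun r => treeF4.get r 32) nrowF4_0
    (opN1 Cfsg.Lie.chevF4.rank Cfsg.Lie.chevF4.nroots (fun r => treeF4.get r 32) 33) 0 48 = true := by
  decide +kernel

theorem cR3_F4_1_at0 : chkR3 Cfsg.Lie.chevF4.rank Cfsg.Lie.chevF4.nroots (fun r => treeF4.get r 32) nrowF4_1
    (opN1 Cfsg.Lie.chevF4.rank Cfsg.Lie.chevF4.nroots (fun r => treeF4.get r 32) 27) 0 48 = true := by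
  decide +kernel

theorem cR3_F4_2_at0 : chkR3 Cfsg.Lie.chevF4.rank Cfsg.Lie.chevF4.nroots (fun r => treeF4.get r 32) nrowF4_2
    (opN1 Cfsg.Lie.chevF4.rank Cfsg.Lie.chevF4.nroots (fun r => treeF4.get r 32) 25) 0 48 = true := by
  decide +kernel

theorem cR3_F4_3_at0 : chkR3 Cfsg.Lie.chevF4.rank Cfsg.Lie.chevF4.nroots (fun r => treeF4.get r 32) nrowF4_3
    (opN1 Cfsg.Lie.chevF4.rank Cfsg.Lie.chevF4.nroots (fun r => treeF4.get r 32) 24) 0 48 = true := by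
  decide +kernel

end Cfsg.Agent.Lib.Helper8
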