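import Cfsg.Agent.Lib.Helper8.Chk.R3_G2_0

set_option autoImplicit false

namespace Cfsg.Agent.Lib.Helper8

theorem cR3_G2_0 : ∀ s < Cfsg.Lie.chevG2.nroots, ∀ j < Cfsg.Lie.chevG2.rank + Cfsg.Lie.chevG2.nroots,
    chkR3col Cfsg.Lie.chevG2.rank Cfsg.Lie.chevG2.nroots (fun r => treeG2.get r 8)
      (opNT Cfsg.Lie.chevG2.rank Cfsg.Lie.chevG2.nroots nrowG2_0
        (opN1 Cfsg.Lie.chevG2.rank Cfsg.Lie.chevG2.nroots (fun r => treeG2.get r 8) 7))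
      s (Nat.land (look9 nrowG2_0 s) 255) (sgn9 (look9 nrowG2_0 s)) j = true := by
  intro s hs j hj
  exact chkR3_spec cR3_G2_0_at0 (by omega) (by have : Cfsg.Lie.chevG2.nroots = 12 := rfl; omega) hj

theorem cR3_G2_1 : ∀ s < Cfsg.Lie.chevG2.nroots, ∀ j < Cfsg.Lie.chevG2.rank + Cfsg.Lie.chevG2.nroots,
    chkR3col Cfsg.Lie.chevG2.rank Cfsg.Lie.chevG2.nroots (fun r => treeG2.get r 8)
      (opNT Cfsg.Lie.chevG2.rank Cfsg.Lie.chevG2.nroots nrowG2_1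
        (opN1 Cfsg.Lie.chevG2.rank Cfsg.Lie.chevG2.nroots (fun r => treeG2.get r 8) 6))
      s (Nat.land (look9 nrowG2_1 s) 255) (sgn9 (look9 nrowG2_1 s)) j = true := by
  intro s hs j hj
  exact chkR3_spec cR3_G2_1_at0 (by omega) (by have : Cfsg.Lie.chevG2.nroots = 12 := rfl; omega) hj


theorem cR3_G2 : R3OK Cfsg.Lie.chevG2 (fun r => treeG2.get r 8) nrowG2 := by
  intro i hi
  by_cases h0 : i = 0
  · subst h0; exact ⟨nrowG2_ok_0, cR3_G2_0⟩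
  have h1 : i = 1 := by have : Cfsg.Lie.chevG2.rank = 2 := rfl; omega
  subst h1; exact ⟨nrowG2_ok_1, cR3_G2_1⟩

end Cfsg.Agent.Lib.Helper8
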